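import Cfsg.Agent.Core.PCore
import Cfsg.Agent.Core.FaithfulTI
import Cfsg.Agent.Fusion.SolvablePSolvable

/-!
A near-central involution of a 2-constrained solvable group lies in the 2-core.
-/

set_option autoImplicit false

namespace Cfsg.Agent.NFour

open Subgroup

variable {L : Type*} [Group L]

/-- An odd element `y ≠ 1` inverted by `z`, centralising a subgroup of index at most four of `Q`,
its image being in an odd normal subgroup of `L/Q`. -/
theorem exists_inverted [Finite L] [Group.IsSolvable L] {z : L} (hz : z * z = 1)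
    (hzQ : z ∉ Cfsg.pCore 2 L) :
    ∃ (M : Subgroup L) (f y : L), M.Normal ∧ Cfsg.pCore 2 L ≤ M ∧
      (∀ g ∈ M, ∃ n, Odd n ∧ g ^ n ∈ Cfsg.pCore 2 L) ∧ y ∈ M ∧ y ≠ 1 ∧ Odd (orderOf y) ∧
      z * y * z⁻¹ = y⁻¹ ∧ (∃ k : ℕ, y = (z * (f * z * f⁻¹)) ^ k) := by
  have : Fact (Nat.Prime 2) := ⟨Nat.prime_two⟩
  set Q := Cfsg.pCore 2 L with hQ
  have hQn : Q.Normal := (Core.normal_and_sSup_induction (Set.toFinite _) (P := fun H => IsPGroup 2 H)
    IsPGroup.of_bot (fun H K _ _ hH hK => hH.to_sup_of_normal_left hK) fun H hH => hH).1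
  let π := QuotientGroup.mk' Q
  have hπ : Function.Surjective π := QuotientGroup.mk'_surjective Q
  have : Group.IsSolvable (L ⧸ Q) := Group.isSolvable_of_surjective hπ
  set N := Cfsg.pPrimeCore 2 (L ⧸ Q) with hN
  have hNn : N.Normal := by rw [hN]; infer_instance
  have hodd : (Nat.card N).Coprime 2 := Core.coprime_card_pPrimeCore
  have hzbar : π z ∉ centralizer (N : Set (L ⧸ Q)) := by
    intro hc
    have h1 := Core.centralizer_pPrimeCore_le (Fusion.isPSolvable_of_isSolvable (L ⧸ Q))
      Core.pCore_quotient_eq_bot hc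
    have h2 : orderOf (π z) ∣ 2 := orderOf_dvd_of_pow_eq_one (by rw [← map_pow, pow_two, hz, map_one])
    have h3 : orderOf (π z) ∣ Nat.card N := orderOf_dvd_natCard N h1
    have h4 : orderOf (π z) = 1 := Nat.eq_one_of_dvd_coprimes hodd h3 h2
    exact hzQ ((QuotientGroup.eq_one_iff z).mp (orderOf_eq_one_iff.mp h4))
  rw [mem_centralizer_iff] at hzbar
  push Not at hzbar
  obtain ⟨fb, hfb, hne⟩ := hzbar
  obtain ⟨f, rfl⟩ := hπ fb
  set d := z * (f * z * f⁻¹) with hd
  have hz' : z⁻¹ = z := inv_eq_of_mul_eq_one_right hz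
  have hdN : π d ∈ N := by
    have e : π d = (π z * π f * (π z)⁻¹) * (π f)⁻¹ := by
      rw [hd, ← map_inv, ← map_inv, ← map_mul, ← map_mul, ← map_mul, hz']
      group
    rw [e]
    exact mul_mem (hNn.conj_mem _ hfb _) (inv_mem hfb)
  have hd1 : π d ≠ 1 := by
    intro e
    apply hne
    have e1 : π (z * f) = π (f * z) := by
      have : z * f = d * (f * z) := by
        rw [hd]
        calc z * f = z * f * (z * z) := by rw [hz, mul_one]
          _ = z * (f * z * f⁻¹) * (f * z) := by group
      rw [this, map_mul, e, one_mul]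
    rw [← map_mul, ← map_mul]
    exact e1.symm
  have hdinv : z * d * z⁻¹ = d⁻¹ := by
    rw [hd, hz']
    have e : (z * (f * z * f⁻¹))⁻¹ = f * z⁻¹ * f⁻¹ * z⁻¹ := by group
    rw [e, hz', ← mul_assoc, hz, one_mul]
  obtain ⟨a, m, hm, ham⟩ := Nat.exists_eq_pow_mul_and_not_dvd (orderOf_pos d).ne' 2 (by norm_num)
  have hyo : orderOf (d ^ (2 ^ a)) = m := by
    rw [orderOf_pow' _ (by positivity), ham, Nat.gcd_mul_right_left,
      Nat.mul_div_cancel_left _ (by positivity)]
  refine ⟨N.comap π, f, d ^ (2 ^ a), hNn.comap π, ?_, ?_, ?_, ?_, ?_, ?_, ⟨2 ^ a, rfl⟩⟩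
  · intro q hq
    show π q ∈ N
    rw [show π q = 1 from (QuotientGroup.eq_one_iff q).mpr hq]
    exact one_mem N
  · intro g hg
    refine ⟨Nat.card N, Nat.coprime_two_right.mp hodd, (QuotientGroup.eq_one_iff _).mp ?_⟩
    have h : ((⟨π g, hg⟩ : N) ^ Nat.card N : N) = 1 := pow_card_eq_one'
    have h' := congrArg Subtype.val h
    show π (g ^ Nat.card N) = 1
    rw [map_pow]
    exact h'
  · show π _ ∈ N
    rw [map_pow]
    exact pow_mem hdN _
  · intro e
    apply hd1
    have h2 : orderOf (π d) ∣ 2 ^ a := orderOf_dvd_of_pow_eq_one (by rw [← map_pow, e, map_one])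
    have h3 : orderOf (π d) ∣ Nat.card N := orderOf_dvd_natCard N hdN
    exact orderOf_eq_one_iff.mp (Nat.eq_one_of_dvd_coprimes (hodd.pow_right a) h3 h2)
  · rw [hyo]
    exact Nat.not_even_iff_odd.mp fun h => hm (even_iff_two_dvd.mp h)
  · rw [← conj_pow, hdinv, inv_pow]

theorem eq_one_of_odd_pow {g : L} {n : ℕ} (hn : Odd n) (h2 : g * g = 1) (h : g ^ n = 1) : g = 1 := by
  obtain ⟨m, rfl⟩ := hn
  rwa [pow_succ, pow_mul, pow_two, h2, one_pow, one_mul] at h

theorem conj_comp (g h x : L) : MulAut.conj g (MulAut.conj h x) = MulAut.conj (g * h) x := by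
  simp [mul_assoc]

theorem commute_of_conj_eq {g x : L} (h : MulAut.conj g x = x) : g * x = x * g := by
  rw [MulAut.conj_apply, mul_inv_eq_iff_eq_mul] at h
  exact h

theorem conj_eq_of_commute {g x : L} (h : g * x = x * g) : MulAut.conj g x = x := by
  rw [MulAut.conj_apply, mul_inv_eq_iff_eq_mul]
  exact h

/-- Pigeonhole on four classes. -/
theorem pigeon {X A B C O : Prop × Prop} (hX : X ≠ O) (hA : A ≠ O) (hB : B ≠ O) (hC : C ≠ O)
    (hAB : A ≠ B) (hAC : A ≠ C) (hBC : B ≠ C) : X = A ∨ X = B ∨ X = C := by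
  classical
  by_contra h
  push Not at h
  have h5 : ({X, A, B, C, O} : Finset (Prop × Prop)).card = 5 := by
    rw [Finset.card_insert_of_notMem (by simp [h.1, h.2.1, h.2.2, hX]),
      Finset.card_insert_of_notMem (by simp [hAB, hAC, hA]),
      Finset.card_insert_of_notMem (by simp [hBC, hB]),
      Finset.card_insert_of_notMem (by simp [hC]), Finset.card_singleton]
  have h4 := ({X, A, B, C, O} : Finset (Prop × Prop)).card_le_univ
  rw [h5, Fintype.card_prod, Fintype.card_prop] at h4
  omega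

set_option maxHeartbeats 1600000 in
/-- An involution central in a subgroup of index two of a Sylow 2-subgroup lies in the 2-core when the
central involution of the Sylow subgroup is unique and central in the group. -/
theorem mem_pCore [Finite L] [Group.IsSolvable L]
    (hsc : centralizer (Cfsg.pCore 2 L : Set L) ≤ Cfsg.pCore 2 L) (T : Sylow 2 L) {u : L}
    (hu : u ∈ center L) (hu1 : u ≠ 1)
    (huniq : ∀ v ∈ (T : Subgroup L), v * v = 1 → (∀ s ∈ (T : Subgroup L), s * v = v * s) → v = 1 ∨ v = u)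
    (P0 : Subgroup L) (hP0 : P0 ≤ T) (hidx : P0.relIndex T = 2) {z : L} (hzP : z ∈ P0)
    (hz : z * z = 1) (hzc : ∀ p ∈ P0, p * z = z * p) : z ∈ Cfsg.pCore 2 L := by
  by_contra hzQ
  have : Fact (Nat.Prime 2) := ⟨Nat.prime_two⟩
  obtain ⟨M, f, y, hMn, hQM, hM, hyM, hy1, hyodd, hyinv, k0, hyd⟩ := exists_inverted hz hzQ
  set Q := Cfsg.pCore 2 L with hQ
  have hQn : Q.Normal := (Core.normal_and_sSup_induction (Set.toFinite _) (P := fun H => IsPGroup 2 H)
    IsPGroup.of_bot (fun H K _ _ hH hK => hH.to_sup_of_normal_left hK) fun H hH => hH).1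
  have hQT : Q ≤ T := Core.pCore_le_sylow T
  have hQ2 : ∀ q ∈ Q, ∀ n, Odd n → q ^ n = 1 → q = 1 := by
    intro q hq n hn h
    obtain ⟨j, hj⟩ := Core.pCore_isPGroup (p := 2) (G := L) ⟨q, hq⟩
    have h1 : q ^ 2 ^ j = 1 := congrArg Subtype.val hj
    have h2 := pow_gcd_eq_one.mpr ⟨h1, h⟩
    rwa [Nat.Coprime.gcd_eq_one ((Nat.coprime_two_left.mpr hn).pow_left j), pow_one] at h2
  have hzconj : ∀ g, MulAut.conj z (MulAut.conj z g) = g := fun g => by
    rw [conj_comp, hz, map_one]; rfl
  -- index two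
  have hidx' : (P0.subgroupOf (T : Subgroup L)).index = 2 := hidx
  have hmem2 : ∀ s ∈ (T : Subgroup L), ∀ s' ∈ (T : Subgroup L), (s * s' ∈ P0 ↔ (s ∈ P0 ↔ s' ∈ P0)) :=
    fun s hs s' hs' => Subgroup.mul_mem_iff_of_index_two hidx' (a := ⟨s, hs⟩) (b := ⟨s', hs'⟩)
  have hP0n : ∀ s ∈ (T : Subgroup L), ∀ p ∈ P0, MulAut.conj s p ∈ P0 := fun s hs p hp =>
    (Subgroup.normal_of_index_eq_two hidx').conj_mem ⟨p, hP0 hp⟩ hp ⟨s, hs⟩
  have hQf : ∀ q ∈ Q, MulAut.conj f⁻¹ q ∈ (T : Subgroup L) := fun q hq =>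
    hQT (hQn.conj_mem q hq _)
  -- the centralised subgroup of index four
  let R : Subgroup L := Q ⊓ P0 ⊓ P0.comap (MulAut.conj f⁻¹).toMonoidHom
  have hR : ∀ q, q ∈ R ↔ q ∈ Q ∧ q ∈ P0 ∧ MulAut.conj f⁻¹ q ∈ P0 := fun q => and_assoc
  have hRy : ∀ r ∈ R, y * r = r * y := by
    intro r hr
    obtain ⟨_, h2, h3⟩ := (hR r).mp hr
    have e1 : Commute r z := hzc r h2
    have e2 : Commute r (f * z * f⁻¹) := by
      have e : Commute (MulAut.conj f⁻¹ r) z := hzc _ h3
      have e' := e.map (MulAut.conj f)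
      simpa [mul_assoc] using e'
    rw [hyd]
    exact ((e1.mul_right e2).pow_right k0).symm
  have hRQ : ∀ q ∈ Q, ∀ r ∈ R, MulAut.conj q r ∈ R := by
    intro q hq r hr
    obtain ⟨h1, h2, h3⟩ := (hR r).mp hr
    refine (hR _).mpr ⟨hQn.conj_mem r h1 q, hP0n q (hQT hq) r h2, ?_⟩
    have e : MulAut.conj f⁻¹ (MulAut.conj q r) =
        MulAut.conj (MulAut.conj f⁻¹ q) (MulAut.conj f⁻¹ r) := by simp [mul_assoc]
    rw [e]
    exact hP0n _ (hQf q hq) _ h3
  let cls : L → Prop × Prop := fun q => (q ∈ P0, MulAut.conj f⁻¹ q ∈ P0)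
  have hcls : ∀ q ∈ Q, ∀ q' ∈ Q, q⁻¹ * q' ∈ R ↔ cls q = cls q' := by
    intro q hq q' hq'
    rw [hR, map_mul, map_inv, Prod.ext_iff, eq_iff_iff, eq_iff_iff,
      hmem2 _ (inv_mem (hQT hq)) _ (hQT hq'), hmem2 _ (inv_mem (hQf q hq)) _ (hQf q' hq'),
      inv_mem_iff, inv_mem_iff]
    exact ⟨fun h => h.2, fun h => ⟨mul_mem (inv_mem hq) hq', h⟩⟩
  have hQc : ∀ g, ∀ q ∈ Q, MulAut.conj g q ∈ Q := fun g q hq => hQn.conj_mem q hq g
  have hyQ : ∀ q ∈ Q, MulAut.conj y q ∈ Q := fun q hq => hQc y q hq
  -- an element moved into its own class is fixed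
  have hstab : ∀ g, Odd (orderOf g) → (∀ r ∈ R, g * r = r * g) → ∀ q ∈ Q,
      q⁻¹ * MulAut.conj g q ∈ R → MulAut.conj g q = q := by
    intro g hg hgR q hq hr
    set r := q⁻¹ * MulAut.conj g q with hrdef
    have hn : ∀ n : ℕ, MulAut.conj (g ^ n) q = q * r ^ n := by
      intro n
      induction n with
      | zero => simp
      | succ n ih =>
        rw [pow_succ', ← conj_comp, ih, map_mul, map_pow, conj_eq_of_commute (hgR r hr),
          pow_succ', ← mul_assoc, hrdef, mul_inv_cancel_left]
    have h := hn (orderOf g)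
    rw [pow_orderOf_eq_one, map_one, MulAut.one_apply, left_eq_mul] at h
    have h1 := hQ2 r ((hR r).mp hr).1 _ hg h
    rw [hrdef, inv_mul_eq_one] at h1
    exact h1.symm
  have hyR' : ∀ i : ℕ, ∀ r ∈ R, y ^ i * r = r * y ^ i := fun i r hr =>
    ((show Commute y r from hRy r hr).pow_left i).eq
  obtain ⟨q0, hq0, hmove⟩ : ∃ q ∈ Q, MulAut.conj y q ≠ q := by
    by_contra h
    push Not at h
    have hc : y ∈ Q := hsc (mem_centralizer_iff.mpr fun q hq => (commute_of_conj_eq (h q hq)).symm)
    exact hy1 (hQ2 y hc _ hyodd (pow_orderOf_eq_one y))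
  -- three classes in each moved orbit
  have three : ∀ q ∈ Q, MulAut.conj y q ≠ q → cls q ≠ cls (MulAut.conj y q) ∧
      cls q ≠ cls (MulAut.conj (y * y) q) ∧
      cls (MulAut.conj y q) ≠ cls (MulAut.conj (y * y) q) := by
    intro q hq hm
    have h1 : cls q ≠ cls (MulAut.conj y q) := fun e =>
      hm (hstab y hyodd hRy q hq ((hcls q hq _ (hyQ q hq)).mpr e))
    refine ⟨h1, fun e => ?_, fun e => ?_⟩
    · apply hm
      have h2o : Odd (orderOf (y ^ 2)) :=
        Odd.of_dvd_nat hyodd (orderOf_pow_dvd 2)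
      have h2 := hstab (y ^ 2) h2o (hyR' 2) q hq
        (by rw [pow_two]; exact (hcls q hq _ (hQc _ q hq)).mpr e)
      obtain ⟨m, hm'⟩ := hyodd
      have h3 : ∀ j : ℕ, MulAut.conj ((y ^ 2) ^ j) q = q := by
        intro j
        induction j with
        | zero => simp
        | succ j ih => rw [pow_succ', ← conj_comp, ih, h2]
      have h4 := h3 (m + 1)
      rwa [← pow_mul, show 2 * (m + 1) = orderOf y + 1 by omega, pow_succ, pow_orderOf_eq_one,
        one_mul] at h4
    · refine hm ((MulAut.conj y).injective ?_)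
      have := hstab y hyodd hRy (MulAut.conj y q) (hyQ q hq)
        (by rw [conj_comp]; exact (hcls _ (hyQ q hq) _ (hQc _ q hq)).mpr e)
      exact this
  have cls_one : ∀ q ∈ Q, cls q = (True, True) → q ∈ R := by
    intro q hq e
    refine (hR q).mpr ⟨hq, ?_, ?_⟩
    · exact of_eq_true (congrArg Prod.fst e)
    · exact of_eq_true (congrArg Prod.snd e)
  have cls_R : ∀ r ∈ R, cls r = (True, True) := fun r hr =>
    Prod.ext (eq_true ((hR r).mp hr).2.1) (eq_true ((hR r).mp hr).2.2)
  have hmoveR : ∀ q ∈ Q, MulAut.conj y q ≠ q → q ∉ R := fun q _ hm hr =>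
    hm (conj_eq_of_commute (hRy q hr))
  -- every class is represented in the orbit of a moved element
  have orbit : ∀ q ∈ Q, MulAut.conj y q ≠ q → ∀ x ∈ Q, x ∉ R →
      cls x = cls q ∨ cls x = cls (MulAut.conj y q) ∨ cls x = cls (MulAut.conj (y * y) q) := by
    intro q hq hm x hx hxR
    obtain ⟨h12, h13, h23⟩ := three q hq hm
    have hm2 : MulAut.conj y (MulAut.conj y q) ≠ MulAut.conj y q := fun e =>
      hm ((MulAut.conj y).injective e)
    have hm3 : MulAut.conj y (MulAut.conj (y * y) q) ≠ MulAut.conj (y * y) q := fun e => by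
      refine hm2 ((MulAut.conj y).injective ?_)
      rw [conj_comp y y q]
      exact e
    have n1 : cls x ≠ (True, True) := fun e => hxR (cls_one x hx e)
    have n2 : cls q ≠ (True, True) := fun e => hmoveR q hq hm (cls_one q hq e)
    have n3 : cls (MulAut.conj y q) ≠ (True, True) := fun e =>
      hmoveR _ (hyQ q hq) hm2 (cls_one _ (hyQ q hq) e)
    have n4 : cls (MulAut.conj (y * y) q) ≠ (True, True) := fun e =>
      hmoveR _ (hQc _ q hq) hm3 (cls_one _ (hQc _ q hq) e)
    exact pigeon n1 n2 n3 n4 h12 h13 h23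
  have hfix : ∀ q ∈ Q, MulAut.conj y q = q → q ∈ R := by
    intro q hq hf
    by_contra hqR
    have key : ∀ w ∈ Q, MulAut.conj y w ≠ w → cls q = cls w → False := by
      intro w hw hm e
      have hr := (hcls q hq w hw).mpr e
      apply hm
      have := conj_eq_of_commute (hRy _ hr)
      rw [map_mul, map_inv, hf, mul_right_inj] at this
      exact this
    have hm2 : MulAut.conj y (MulAut.conj y q0) ≠ MulAut.conj y q0 := fun e =>
      hmove ((MulAut.conj y).injective e)
    rcases orbit q0 hq0 hmove q hq hqR with e | e | e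
    · exact key _ hq0 hmove e
    · exact key _ (hyQ _ hq0) hm2 e
    · refine key _ (hQc _ q0 hq0) (fun e' => hm2 ((MulAut.conj y).injective ?_)) e
      rw [conj_comp y y q0]
      exact e'
  have hy3 : y * y * y = 1 := by
    have h : y * y * y ∈ centralizer (Q : Set L) := by
      refine mem_centralizer_iff.mpr fun q hq => (commute_of_conj_eq ?_).symm
      by_cases hm : MulAut.conj y q = q
      · rw [← conj_comp, ← conj_comp, hm, hm, hm]
      · have ho : Odd (orderOf (y ^ 3)) := Odd.of_dvd_nat hyodd (orderOf_pow_dvd 3)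
        have e3 : y ^ 3 = y * y * y := by rw [pow_succ, pow_two]
        rw [← e3]
        refine hstab _ ho (hyR' 3) q hq ((hcls q hq _ (hQc _ q hq)).mpr ?_)
        rw [e3]
        have hm3 : MulAut.conj (y * y * y) q ∉ R := by
          intro hr
          have h5 := conj_eq_of_commute (hRy _ hr)
          rw [conj_comp] at h5
          have : MulAut.conj (y * y * y) (MulAut.conj y q) = MulAut.conj (y * y * y) q := by
            rw [conj_comp]
            simpa [mul_assoc] using h5
          exact hm ((MulAut.conj _).injective this)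
        have hm2 : MulAut.conj y (MulAut.conj y q) ≠ MulAut.conj y q := fun e =>
          hm ((MulAut.conj y).injective e)
        rcases orbit q hq hm _ (hQc _ q hq) hm3 with e | e | e
        · exact e.symm
        · exfalso
          refine (three _ (hyQ q hq) hm2).2.1 ?_
          rw [conj_comp]
          exact e.symm
        · exfalso
          refine (three _ (hQc (y * y) q hq) ?_).1 ?_
          · intro e'
            refine hm2 ((MulAut.conj y).injective ?_)
            rw [conj_comp y y q]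
            exact e'
          · rw [conj_comp, ← mul_assoc]
            exact e.symm
    have h3 : Odd (orderOf (y * y * y)) := by
      refine Odd.of_dvd_nat hyodd ?_
      rw [show y * y * y = y ^ 3 by rw [pow_succ, pow_two]]
      exact orderOf_pow_dvd 3
    exact hQ2 _ (hsc h) _ h3 (pow_orderOf_eq_one _)
  have hy3' : ∀ g, MulAut.conj y (MulAut.conj y (MulAut.conj y g)) = g := fun g => by
    rw [conj_comp, conj_comp, hy3, map_one]; rfl
  -- the triple
  let e0 := q0⁻¹ * MulAut.conj y q0
  have he0Q : e0 ∈ Q := mul_mem (inv_mem hq0) (hyQ q0 hq0)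
  have he0R : e0 ∉ R := fun h => hmove (hstab y hyodd hRy q0 hq0 h)
  have he0c : ∀ r ∈ R, e0 * r = r * e0 := by
    intro r hr
    have h1 : MulAut.conj y (MulAut.conj q0 r) = MulAut.conj q0 r :=
      conj_eq_of_commute (hRy _ (hRQ q0 hq0 r hr))
    have h2 : MulAut.conj y (MulAut.conj q0 r) = MulAut.conj (MulAut.conj y q0) r := by
      have : MulAut.conj y r = r := conj_eq_of_commute (hRy r hr)
      conv_rhs => rw [← this]
      simp [mul_assoc]
    apply commute_of_conj_eq
    show MulAut.conj (q0⁻¹ * MulAut.conj y q0) r = r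
    rw [← conj_comp, ← h2, h1, conj_comp, inv_mul_cancel, map_one]
    rfl
  have he0p : e0 * MulAut.conj y e0 * MulAut.conj y (MulAut.conj y e0) = 1 := by
    simp only [e0, map_mul, map_inv, hy3']
    group
  obtain ⟨a, haQ, haP, haR, hac, hap⟩ : ∃ a, a ∈ Q ∧ a ∈ P0 ∧ a ∉ R ∧ (∀ r ∈ R, a * r = r * a) ∧
      a * MulAut.conj y a * MulAut.conj y (MulAut.conj y a) = 1 := by
    have hshift : ∀ x, x * MulAut.conj y x * MulAut.conj y (MulAut.conj y x) = 1 →
        MulAut.conj y x * MulAut.conj y (MulAut.conj y x) *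
          MulAut.conj y (MulAut.conj y (MulAut.conj y x)) = 1 := fun x hx => by
      rw [← map_mul, ← map_mul, hx, map_one]
    have hcY : ∀ x, (∀ r ∈ R, x * r = r * x) → ∀ r ∈ R,
        MulAut.conj y x * r = r * MulAut.conj y x := fun x hx r hr => by
      rw [← conj_eq_of_commute (hRy r hr), ← map_mul, ← map_mul, hx r hr]
    have hRY : ∀ x ∈ Q, x ∉ R → MulAut.conj y x ∉ R := fun x hx hxR hr => by
      apply hxR
      have h1 := hy3' x
      rw [conj_eq_of_commute (hRy _ hr), conj_eq_of_commute (hRy _ hr)] at h1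
      rwa [h1] at hr
    have hmv : MulAut.conj y e0 ≠ e0 := fun e => he0R (hfix e0 he0Q e)
    obtain ⟨h12, h13, h23⟩ := three e0 he0Q hmv
    by_cases hA : e0 ∈ P0
    · exact ⟨e0, he0Q, hA, he0R, he0c, he0p⟩
    by_cases hB : MulAut.conj y e0 ∈ P0
    · exact ⟨_, hyQ _ he0Q, hB, hRY _ he0Q he0R, hcY _ he0c, hshift _ he0p⟩
    by_cases hC : MulAut.conj y (MulAut.conj y e0) ∈ P0
    · exact ⟨_, hyQ _ (hyQ _ he0Q), hC, hRY _ (hyQ _ he0Q) (hRY _ he0Q he0R),
        hcY _ (hcY _ he0c), hshift _ (hshift _ he0p)⟩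
    rw [conj_comp] at hC
    exfalso
    simp only [cls, ne_eq, Prod.ext_iff, hA, hB, hC, true_and, eq_iff_iff] at h12 h13 h23
    tauto
  set b := MulAut.conj y a with hb
  set k := MulAut.conj y b with hk
  have hbQ : b ∈ Q := hyQ a haQ
  have hkQ : k ∈ Q := hyQ b hbQ
  have hyk : MulAut.conj y k = a := hy3' a
  have hmv : MulAut.conj y a ≠ a := fun e => haR (hfix a haQ e)
  have hza : MulAut.conj z a = a := conj_eq_of_commute (hzc a haP).symm
  have hzy : ∀ g, MulAut.conj z (MulAut.conj y g) = MulAut.conj y⁻¹ (MulAut.conj z g) := fun g => by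
    rw [conj_comp, conj_comp, ← hyinv]
    congr 1
    group
  have hzb : MulAut.conj z b = k := by
    rw [hb, hzy, hza, hk, hb, conj_comp]
    have : y⁻¹ = y * y := inv_eq_of_mul_eq_one_right (by rw [← mul_assoc, hy3])
    rw [this]
  have hzk : MulAut.conj z k = b := by rw [← hzb, hzconj]
  have hab : Commute a b := by
    have h1 : a * k * b = 1 := by
      have := congrArg (MulAut.conj z) hap
      rwa [map_mul, map_mul, map_one, hza, hzb, hzk] at this
    have h2 : k = a⁻¹ * b⁻¹ := by
      calc k = a⁻¹ * (a * k * b) * b⁻¹ := by group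
        _ = a⁻¹ * b⁻¹ := by rw [h1, mul_one]
    have h3 : k = b⁻¹ * a⁻¹ := by
      calc k = b⁻¹ * a⁻¹ * (a * b * k) := by group
        _ = b⁻¹ * a⁻¹ := by rw [hap, mul_one]
    have h4 : (a⁻¹ * b⁻¹)⁻¹ = (b⁻¹ * a⁻¹)⁻¹ := by rw [← h2, ← h3]
    show a * b = b * a
    simpa using h4.symm
  have hkk : k = (a * b)⁻¹ := eq_inv_of_mul_eq_one_right hap
  have hak : Commute a k := by rw [hkk]; exact ((Commute.refl a).mul_right hab).inv_right
  have hcenter : ∀ q ∈ Q, a * q = q * a := by
    intro q hq
    by_cases hqR : q ∈ R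
    · exact hac q hqR
    have key : ∀ w, w ∈ Q → Commute a w → cls q = cls w → Commute a q := fun w hw hc e => by
      have hr := (hcls w hw q hq).mpr e.symm
      have e' : q = w * (w⁻¹ * q) := by group
      rw [e']
      exact hc.mul_right (hac _ hr)
    rcases orbit a haQ hmv q hq hqR with e | e | e
    · exact key a haQ (Commute.refl a) e
    · exact key b hbQ hab e
    · refine key k hkQ hak ?_
      rw [hk, hb, conj_comp]
      exact e
  have hcY : ∀ x, (∀ q ∈ Q, x * q = q * x) → ∀ q ∈ Q, MulAut.conj y x * q = q * MulAut.conj y x :=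
    fun x hx q hq => by
    have h1 : MulAut.conj y (MulAut.conj y⁻¹ q) = q := by rw [conj_comp, mul_inv_cancel, map_one]; rfl
    rw [← h1, ← map_mul, ← map_mul, hx _ (hQc _ q hq)]
  have hbc := hcY a hcenter
  have hkc := hcY b hbc
  have ha2 : a * a = 1 := by
    have h1 : a * a ∈ R := by
      refine (hR _).mpr ⟨mul_mem haQ haQ, mul_mem haP haP, ?_⟩
      rw [map_mul, hmem2 _ (hQf a haQ) _ (hQf a haQ)]
    have h2 : b * b = a * a := by
      rw [hb, ← map_mul]; exact conj_eq_of_commute (hRy _ h1)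
    have h3 : k * k = a * a := by
      rw [hk, ← map_mul, h2]; exact conj_eq_of_commute (hRy _ h1)
    have h4 : a * a * (a * a) * (a * a) = 1 := by
      have h5 : a * b * k * (a * b * k) = a * a * (b * b) * (k * k) := by
        have hbk : Commute b k := hkc b hbQ |>.symm
        calc a * b * k * (a * b * k) = a * b * (k * (a * b)) * k := by group
          _ = a * b * (a * b * k) * k := by rw [((hak.symm).mul_right hbk.symm).eq]
          _ = a * (b * a) * b * (k * k) := by group
          _ = a * (a * b) * b * (k * k) := by rw [hab.eq]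
          _ = a * a * (b * b) * (k * k) := by group
      rw [hap, h2, h3, one_mul] at h5
      exact h5.symm
    exact hQ2 _ (mul_mem haQ haQ) 3 (by decide) (by rw [pow_succ, pow_two]; exact h4)
  have hkab : k = a * b := by
    have hb2 : b * b = 1 := by rw [hb, ← map_mul, ha2, map_one]
    rw [hkk, mul_inv_rev, inv_eq_of_mul_eq_one_right hb2, inv_eq_of_mul_eq_one_right ha2, hab.eq]
  -- commutators of z with the centre of Q
  let ZQ : Subgroup L := Q ⊓ centralizer (Q : Set L)
  have hmemZ : ∀ x ∈ Q, (∀ q ∈ Q, x * q = q * x) → x ∈ ZQ := fun x hx h =>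
    ⟨hx, mem_centralizer_iff.mpr fun q hq => (h q hq).symm⟩
  have hZconj : ∀ g, ∀ x ∈ ZQ, MulAut.conj g x ∈ ZQ := by
    intro g x hx
    refine ⟨hQc g x hx.1, mem_centralizer_iff.mpr fun q hq => ?_⟩
    have h1 : MulAut.conj g (MulAut.conj g⁻¹ q) = q := by rw [conj_comp, mul_inv_cancel, map_one]; rfl
    rw [← h1, ← map_mul, ← map_mul, mem_centralizer_iff.mp hx.2 _ (hQc _ q hq)]
  have hzval : ∀ q ∈ ZQ, MulAut.conj z q = q ∨ MulAut.conj z q = q * a := by
    intro q hq
    have fixR : ∀ r ∈ R, MulAut.conj z r = r := fun r hr =>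
      conj_eq_of_commute (hzc r ((hR r).mp hr).2.1).symm
    by_cases hqR : q ∈ R
    · exact Or.inl (fixR q hqR)
    have key : ∀ w, w ∈ Q → cls q = cls w →
        MulAut.conj z q = MulAut.conj z w * (w⁻¹ * q) := fun w hw e => by
      conv_lhs => rw [show q = w * (w⁻¹ * q) by group]
      rw [map_mul, fixR _ ((hcls w hw q hq.1).mpr e.symm)]
    have hqa : q * a = a * q := (hcenter q hq.1).symm
    rcases orbit a haQ hmv q hq.1 hqR with e | e | e
    · left
      rw [key a haQ e, hza]; group
    · right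
      rw [key b hbQ e, hzb, hkab, hqa]; group
    · right
      have e' : cls q = cls k := by rw [hk, hb, conj_comp]; exact e
      rw [key k hkQ e', hzk, hqa, hkab]
      calc b * ((a * b)⁻¹ * q) = b * b⁻¹ * a⁻¹ * q := by group
        _ = a * q := by rw [mul_inv_cancel, one_mul, inv_eq_of_mul_eq_one_right ha2]
  have hab' : b ≠ a := hmv
  have hbk : k ≠ b := fun e => hmv ((MulAut.conj y).injective e)
  have hP0a : ∀ p ∈ P0, MulAut.conj p a = a := by
    intro p hp
    have hpz : ∀ g, MulAut.conj z (MulAut.conj p g) = MulAut.conj p (MulAut.conj z g) := fun g => by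
      rw [conj_comp, conj_comp, hzc p hp]
    rcases hzval _ (hZconj p b (hmemZ b hbQ hbc)) with e | e
    · exfalso
      rw [hpz, hzb] at e
      exact hbk ((MulAut.conj p).injective e)
    · rw [hpz, hzb, hkab, map_mul, hcenter _ (hQc p b hbQ) |>.symm] at e
      exact mul_right_cancel e
  obtain ⟨t, ht, htP⟩ : ∃ t ∈ (T : Subgroup L), t ∉ P0 := by
    by_contra h
    push Not at h
    rw [Subgroup.relIndex_eq_one.mpr h] at hidx
    exact absurd hidx (by norm_num)
  set z' := MulAut.conj t z with hz'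
  set a' := MulAut.conj t a with ha'
  have hP0a' : ∀ p ∈ P0, MulAut.conj p a' = a' := fun p hp => by
    have e : MulAut.conj p a' = MulAut.conj t (MulAut.conj (MulAut.conj t⁻¹ p) a) := by
      simp [ha', mul_assoc]
    rw [e, hP0a _ (hP0n _ (inv_mem ht) p hp)]
  have hta' : MulAut.conj t a' = a := by
    rw [ha', conj_comp]
    exact hP0a _ ((hmem2 t ht t ht).mpr Iff.rfl)
  have ha'Q : a' ∈ Q := hQc t a haQ
  have haa' : a' * a = a * a' := (hcenter a' ha'Q).symm
  have hv : a * a' = u := by
    have h2 : a * a' * (a * a') = 1 := by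
      have e : a' * a' = 1 := by rw [ha', ← map_mul, ha2, map_one]
      calc a * a' * (a * a') = a * (a' * a) * a' := by group
        _ = a * a * (a' * a') := by rw [haa']; group
        _ = 1 := by rw [ha2, e, one_mul]
    have h3 : ∀ s ∈ (T : Subgroup L), s * (a * a') = a * a' * s := by
      intro s hs
      apply commute_of_conj_eq
      by_cases hsP : s ∈ P0
      · rw [map_mul, hP0a s hsP, hP0a' s hsP]
      · have hp : t⁻¹ * s ∈ P0 := by
          rw [hmem2 _ (inv_mem ht) _ hs, inv_mem_iff]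
          exact iff_of_false htP hsP
        rw [show s = t * (t⁻¹ * s) by group, ← conj_comp, map_mul, hP0a _ hp, hP0a' _ hp, map_mul,
          hta', ← ha', haa']
    rcases huniq _ (hQT (mul_mem haQ ha'Q)) h2 h3 with h | h
    · exfalso
      have e : a' = a := by rw [← inv_eq_of_mul_eq_one_right h, inv_eq_of_mul_eq_one_right ha2]
      have hc : ∀ s ∈ (T : Subgroup L), s * a = a * s := by
        intro s hs
        apply commute_of_conj_eq
        by_cases hsP : s ∈ P0
        · exact hP0a s hsP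
        · have hp : t⁻¹ * s ∈ P0 := by
            rw [hmem2 _ (inv_mem ht) _ hs, inv_mem_iff]
            exact iff_of_false htP hsP
          rw [show s = t * (t⁻¹ * s) by group, ← conj_comp, hP0a _ hp, ← ha', e]
      rcases huniq a (hQT haQ) ha2 hc with h1 | h1
      · exact haR (h1 ▸ one_mem R)
      · exact hmv (conj_eq_of_commute (by rw [h1]; exact mem_center_iff.mp hu y))
    · exact h
  have ha'u : a' = a * u := by rw [← hv, ← mul_assoc, ha2, one_mul]
  have hufix : ∀ g, MulAut.conj g u = u := fun g => conj_eq_of_commute (mem_center_iff.mp hu g)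
  have hz'inv : ∀ g, MulAut.conj z' (MulAut.conj z' g) = g := fun g => by
    rw [conj_comp, hz', ← map_mul, hz, map_one, map_one]; rfl
  have hz'a : MulAut.conj z' a = a := hP0a _ (hP0n t ht z hzP)
  have hz'val : ∀ q ∈ ZQ, MulAut.conj z' q = q ∨ MulAut.conj z' q = q * a' := by
    intro q hq
    have e : MulAut.conj z' q = MulAut.conj t (MulAut.conj z (MulAut.conj t⁻¹ q)) := by
      simp [hz', mul_assoc]
    have e2 : MulAut.conj t (MulAut.conj t⁻¹ q) = q := by rw [conj_comp, mul_inv_cancel, map_one]; rfl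
    rcases hzval _ (hZconj t⁻¹ q hq) with h | h
    · left; rw [e, h, e2]
    · right; rw [e, h, map_mul, e2]
  have hbZ : b ∈ ZQ := hmemZ b hbQ hbc
  have hz'M : ∀ g ∈ M, MulAut.conj z' g ∈ M := fun g hg => hMn.conj_mem g hg z'
  have modd : ∀ g ∈ M, ∀ q ∈ ZQ, MulAut.conj g (MulAut.conj g q) = q → MulAut.conj g q = q := by
    intro g hg q hq h2
    obtain ⟨n, hn, hgn⟩ := hM g hg
    have h3 : ∀ j : ℕ, MulAut.conj (g ^ (2 * j)) q = q := by
      intro j
      induction j with
      | zero => simp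
      | succ j ih =>
        rw [show 2 * (j + 1) = 2 + 2 * j by ring, pow_add, ← conj_comp, ih, pow_two, ← conj_comp, h2]
    have h4 : MulAut.conj (g ^ n) q = q :=
      conj_eq_of_commute (mem_centralizer_iff.mp hq.2 _ hgn)
    obtain ⟨m, rfl⟩ := hn
    rwa [pow_succ', ← conj_comp, h3] at h4
  have hua : Commute u a := (mem_center_iff.mp hu a).symm
  rcases hz'val b hbZ with hcase | hcase
  · -- z' centralises the four group
    let g := y * MulAut.conj z' y⁻¹
    have hgM : g ∈ M := mul_mem hyM (hz'M _ (inv_mem hyM))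
    have hgconj : ∀ q, MulAut.conj g q =
        MulAut.conj y (MulAut.conj z' (MulAut.conj y⁻¹ (MulAut.conj z' q))) := fun q => by
      have hzi : z'⁻¹ = z' := by
        refine inv_eq_of_mul_eq_one_right ?_
        rw [hz', ← map_mul, hz, map_one]
      simp [g, mul_assoc, hzi]
    have fix' : MulAut.conj z' (a * u) = a * u := by rw [map_mul, hz'a, hufix]
    have hyiu : MulAut.conj y⁻¹ (a * u) = k * u := by
      rw [map_mul, hufix]
      congr 1
      rw [← hyk, conj_comp, inv_mul_cancel, map_one]; rfl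
    have hzk' : MulAut.conj z' k = k := by rw [hkab, map_mul, hz'a, hcase]
    have hga : MulAut.conj g (a * u) = a * u := by
      rw [hgconj, fix', hyiu, map_mul, hzk', hufix, map_mul, hyk, hufix]
    have hgb : MulAut.conj g (b * u) = b * u := by
      have h1 : MulAut.conj y⁻¹ b = a := by rw [hb, conj_comp, inv_mul_cancel, map_one]; rfl
      rw [hgconj]
      simp only [map_mul, hufix, hcase, h1, hz'a, ← hb]
    have hga' : MulAut.conj g a' = a' := by rw [ha'u]; exact hga
    have hya' : MulAut.conj y a' = b * u := by rw [ha'u, map_mul, hufix]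
    have hgb' : MulAut.conj g (MulAut.conj y a') = MulAut.conj y a' := by rw [hya']; exact hgb
    have hsq : ∀ x ∈ Q, (x = 1 ∨ x = a' ∨ x = MulAut.conj y a' ∨ x = a' * MulAut.conj y a') →
        x * x = 1 ∧ MulAut.conj g x = x := by
      have e : a' * a' = 1 := by rw [ha', ← map_mul, ha2, map_one]
      have e2 : MulAut.conj y a' * MulAut.conj y a' = 1 := by rw [← map_mul, e, map_one]
      have hc : MulAut.conj y a' * a' = a' * MulAut.conj y a' := by
        rw [hya', ha'u]
        exact (((hab.symm.mul_right (mem_center_iff.mp hu b))).mul_left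
          ((hua).mul_right (Commute.refl u))).eq
      rintro x - (rfl | rfl | rfl | rfl)
      · simp
      · exact ⟨e, hga'⟩
      · exact ⟨e2, hgb'⟩
      · refine ⟨?_, by rw [map_mul, hga', hgb']⟩
        calc a' * MulAut.conj y a' * (a' * MulAut.conj y a')
            = a' * (MulAut.conj y a' * a') * MulAut.conj y a' := by group
          _ = a' * a' * (MulAut.conj y a' * MulAut.conj y a') := by rw [hc]; group
          _ = 1 := by rw [e, e2, one_mul]
    have hgq : ∀ q ∈ ZQ, MulAut.conj g q = q := by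
      intro q hq
      refine modd g hgM q hq ?_
      obtain ⟨s, hs, hsq'⟩ : ∃ s ∈ Q, MulAut.conj g q = q * s ∧
          (s = 1 ∨ s = a' ∨ s = MulAut.conj y a' ∨ s = a' * MulAut.conj y a') := by
        have hyy : ∀ w, MulAut.conj y (MulAut.conj y⁻¹ w) = w := fun w => by
          rw [conj_comp, mul_inv_cancel, map_one]; rfl
        rcases hz'val q hq with h1 | h1
        · rcases hz'val _ (hZconj y⁻¹ _ hq) with h2 | h2
          · exact ⟨1, one_mem Q, by rw [hgconj, h1, h2, hyy, mul_one], Or.inl rfl⟩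
          · exact ⟨_, hyQ a' ha'Q, by rw [hgconj, h1, h2, map_mul, hyy], Or.inr (Or.inr (Or.inl rfl))⟩
        · rcases hz'val _ (hZconj y⁻¹ _ (hZconj z' q hq)) with h2 | h2
          · exact ⟨a', ha'Q, by rw [hgconj, h2, hyy, h1], Or.inr (Or.inl rfl)⟩
          · exact ⟨_, mul_mem ha'Q (hyQ a' ha'Q),
              by rw [hgconj, h2, map_mul, hyy, h1, mul_assoc], Or.inr (Or.inr (Or.inr rfl))⟩
      obtain ⟨h5, h6⟩ := hsq s hs hsq'.2
      rw [hsq'.1, map_mul, hsq'.1, h6, mul_assoc, h5, mul_one]
    have hne : a' ≠ MulAut.conj y a' := fun e => by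
      rw [hya', ha'u] at e
      exact hab' (mul_right_cancel e).symm
    have hz'fix : ∀ q ∈ ZQ, MulAut.conj z' q = q := by
      intro q hq
      have h1 := hgq q hq
      rw [hgconj] at h1
      rcases hz'val q hq with h | h
      · exact h
      exfalso
      rw [h] at h1
      have hw : q * a' ∈ ZQ := h ▸ hZconj z' q hq
      rcases hz'val _ (hZconj y⁻¹ _ hw) with h2 | h2
      · rw [h2, conj_comp, mul_inv_cancel, map_one, MulAut.one_apply, mul_eq_left] at h1
        rw [ha', map_eq_one_iff _ (MulAut.conj t).injective] at h1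
        exact haR (h1 ▸ one_mem R)
      · rw [h2, map_mul, conj_comp, mul_inv_cancel, map_one, MulAut.one_apply, mul_assoc,
          mul_eq_left] at h1
        have e : a' * a' = 1 := by rw [ha', ← map_mul, ha2, map_one]
        exact hne (mul_left_cancel (e.trans h1.symm))
    have h := hz'fix _ (hZconj t b hbZ)
    rw [hz', conj_comp] at h
    have e : MulAut.conj (MulAut.conj t z * t) b = MulAut.conj t (MulAut.conj z b) := by
      simp [mul_assoc]
    rw [e, hzb] at h
    exact hbk ((MulAut.conj t).injective h)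
  · -- z' moves the four group
    let h := y * MulAut.conj z' y
    have hhM : h ∈ M := mul_mem hyM (hz'M _ hyM)
    have hh : MulAut.conj h a = a * u := by
      have hzi : z'⁻¹ = z' := by
        refine inv_eq_of_mul_eq_one_right ?_
        rw [hz', ← map_mul, hz, map_one]
      have e : MulAut.conj h a = MulAut.conj y (MulAut.conj z' (MulAut.conj y (MulAut.conj z' a))) := by
        simp [h, mul_assoc, hzi]
      rw [e, hz'a, ← hb, hcase, ha'u, map_mul, map_mul, hufix, ← hk, ← hb]
      have e2 : k * b = a := by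
        rw [hkab, mul_assoc]
        have hb2 : b * b = 1 := by rw [hb, ← map_mul, ha2, map_one]
        rw [hb2, mul_one]
      rw [← mul_assoc, e2]
    refine hu1 ?_
    have h2 : MulAut.conj h (MulAut.conj h a) = a := by
      rw [hh, map_mul, hh, hufix, mul_assoc]
      have : u * u = 1 := by
        have e : a' * a' = 1 := by rw [ha', ← map_mul, ha2, map_one]
        rw [ha'u] at e
        calc u * u = a * a * (u * u) := by rw [ha2, one_mul]
          _ = a * (a * u) * u := by group
          _ = a * (u * a) * u := by rw [hua.eq]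
          _ = a * u * (a * u) := by group
          _ = 1 := e
      rw [this, mul_one]
    have h3 := modd h hhM a (hmemZ a haQ hcenter) h2
    rw [hh, mul_eq_left] at h3
    exact h3

end Cfsg.Agent.NFour
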