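import Cfsg.Agent.NFour.Abstract
import Cfsg.Agent.Coprime.Generation
import Cfsg.Agent.Fusion.PGroup
import Cfsg.Prelude.Def_CaseTheorems

/-!
A normal four-subgroup of a Sylow 2-subgroup lies in the 2-core of the centraliser of each of its
involutions (characteristic 2 type, solvable 2-locals).
-/

set_option autoImplicit false

namespace Cfsg.Agent.NFour

open Subgroup

variable {G : Type*} [Group G]

theorem eq_of_cyclic_involutions {Z : Subgroup G} (hZ : IsCyclic Z) [Finite G] {x y : G} (hx : x ∈ Z)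
    (hy : y ∈ Z) (hx2 : x * x = 1) (hy2 : y * y = 1) (hx1 : x ≠ 1) (hy1 : y ≠ 1) : x = y := by
  classical
  have := Fintype.ofFinite Z
  by_contra hne
  have h := IsCyclic.card_pow_eq_one_le (α := Z) (n := 2) (by norm_num)
  have hsub : ({⟨1, one_mem Z⟩, ⟨x, hx⟩, ⟨y, hy⟩} : Finset Z) ⊆
      Finset.univ.filter fun a => a ^ 2 = 1 := by
    intro a ha
    simp only [Finset.mem_insert, Finset.mem_singleton] at ha
    rw [Finset.mem_filter]
    refine ⟨Finset.mem_univ a, Subtype.ext ?_⟩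
    rcases ha with rfl | rfl | rfl <;> simp [pow_two, hx2, hy2]
  have h3 := Finset.card_le_card hsub
  rw [Finset.card_insert_of_notMem (by simp [Ne.symm hx1, Ne.symm hy1]),
    Finset.card_insert_of_notMem (by simp [hne]), Finset.card_singleton] at h3
  omega

theorem klein_product {U : Subgroup G} (hU : IsKleinFour U) {x y w : G} (hx : x ∈ U) (hy : y ∈ U)
    (hw : w ∈ U) (hx1 : x ≠ 1) (hy1 : y ≠ 1) (hxy : x ≠ y) :
    w = 1 ∨ w = x ∨ w = y ∨ w = x * y := by
  by_contra h
  push Not at h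
  obtain ⟨h1, h2, h3, h4⟩ := h
  have := IsKleinFour.eq_mul_of_ne_all (x := (⟨x, hx⟩ : U)) (y := ⟨y, hy⟩) (z := ⟨w, hw⟩)
    (fun e => hx1 (congrArg Subtype.val e)) (fun e => hy1 (congrArg Subtype.val e))
    (fun e => hxy (congrArg Subtype.val e)) (fun e => h1 (congrArg Subtype.val e))
    (fun e => h2 (congrArg Subtype.val e)) (fun e => h3 (congrArg Subtype.val e))
  exact h4 (congrArg Subtype.val this)

theorem klein_sq {U : Subgroup G} (hU : IsKleinFour U) {x : G} (hx : x ∈ U) : x * x = 1 :=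
  congrArg Subtype.val (IsKleinFour.mul_self (⟨x, hx⟩ : U))

theorem le_pCore_of_center {L : Type*} [Group L] [Finite L] {u : L} (hu : u ∈ center L)
    (hu2 : u * u = 1) : u ∈ Cfsg.pCore 2 L := by
  have hn : (zpowers u).Normal := ⟨fun n hn g => by
    obtain ⟨k, rfl⟩ := hn
    have h : Commute g u := mem_center_iff.mp hu g
    rw [(h.zpow_right k).eq, mul_inv_cancel_right]
    exact ⟨k, rfl⟩⟩
  refine Core.le_pCore ?_ (mem_zpowers u)
  rintro ⟨_, k, rfl⟩
  refine ⟨1, Subtype.ext ?_⟩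
  show (u ^ k) ^ (2 ^ 1) = 1
  rw [pow_one, pow_two, ← (Commute.refl u).mul_zpow, hu2, one_zpow]

/-- The key statement. -/
theorem le_core_centralizer [Finite G] (hN : Cfsg.IsNGroup G) (h2 : Cfsg.IsCharacteristicTwoType G)
    (P : Sylow 2 G) (U : Subgroup G) (hUP : U ≤ (P : Subgroup G))
    (hUn : (P : Subgroup G) ≤ Subgroup.normalizer (U : Set G)) (hU4 : IsKleinFour U)
    (hUZ : ¬ IsCyclic ↥((P : Subgroup G) ⊓ centralizer ((P : Subgroup G) : Set G)) →
      U ≤ centralizer ((P : Subgroup G) : Set G))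
    {u : G} (huU : u ∈ U) (hu1 : u ≠ 1) :
    ∀ v ∈ U, ∃ hv : v ∈ normalizer ((zpowers u : Subgroup G) : Set G),
      (⟨v, hv⟩ : normalizer ((zpowers u : Subgroup G) : Set G)) ∈
        Cfsg.pCore 2 ↥(normalizer ((zpowers u : Subgroup G) : Set G)) := by
  have : Fact (Nat.Prime 2) := ⟨Nat.prime_two⟩
  set L := normalizer ((zpowers u : Subgroup G) : Set G) with hL
  have hu2 := klein_sq hU4 huU
  have huo : orderOf u = 2 := orderOf_eq_prime (by rw [pow_two]; exact hu2) hu1
  have huP : IsPGroup 2 (zpowers u) := by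
    refine IsPGroup.of_card (n := 1) ?_
    rw [Nat.card_zpowers, huo, pow_one]
  have hne : zpowers u ≠ ⊥ := by simp [hu1]
  have hsol : Group.IsSolvable L := hN L ⟨2, zpowers u, Nat.prime_two, huP, hne, rfl⟩
  have hsc : centralizer (Cfsg.pCore 2 L : Set L) ≤ Cfsg.pCore 2 L := h2.2 _ huP hne
  have hmemu : ∀ x ∈ zpowers u, x = 1 ∨ x = u := by
    rintro _ ⟨k, rfl⟩
    rcases Int.even_or_odd k with ⟨m, rfl⟩ | ⟨m, rfl⟩
    · left
      show u ^ (m + m) = 1
      rw [zpow_add, ← (Commute.refl u).mul_zpow, hu2, one_zpow]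
    · right
      show u ^ (2 * m + 1) = u
      rw [zpow_add, zpow_mul, show u ^ (2 : ℤ) = 1 by rw [zpow_two]; exact hu2, one_zpow, one_mul,
        zpow_one]
  have hLc : ∀ x ∈ L, x * u = u * x := by
    intro x hx
    rcases hmemu _ ((mem_normalizer_iff.mp hx u).mp (mem_zpowers u)) with e | e
    · rw [conj_eq_one_iff] at e
      exact absurd e hu1
    · rwa [mul_inv_eq_iff_eq_mul] at e
  have hcL : ∀ x, x * u = u * x → x ∈ L := by
    intro x hx
    have e : ∀ k : ℤ, x * u ^ k * x⁻¹ = u ^ k := fun k => by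
      rw [(show Commute x u from hx).zpow_right k |>.eq, mul_inv_cancel_right]
    refine mem_normalizer_iff.mpr fun y => ⟨?_, ?_⟩
    · rintro ⟨k, rfl⟩
      exact ⟨k, (e k).symm⟩
    · rintro ⟨k, hk⟩
      refine ⟨k, ?_⟩
      dsimp only at hk ⊢
      rw [← e k] at hk
      exact mul_left_cancel (mul_right_cancel hk)
  have hUc : ∀ x ∈ U, ∀ y ∈ U, x * y = y * x := fun x hx y hy => by
    calc x * y = x * (x * y * (x * y)) * y := by rw [klein_sq hU4 (mul_mem hx hy), mul_one]
      _ = x * x * (y * x) * (y * y) := by group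
      _ = y * x := by rw [klein_sq hU4 hx, klein_sq hU4 hy, one_mul, mul_one]
  have hUL : ∀ v ∈ U, v ∈ L := fun v hv => hcL v (hUc v hv u huU)
  intro v hv
  refine ⟨hUL v hv, ?_⟩
  set Q := Cfsg.pCore 2 L with hQdef
  have hQn : Q.Normal := (Core.normal_and_sSup_induction (Set.toFinite _) (P := fun H => IsPGroup 2 H)
    IsPGroup.of_bot (fun H K _ _ hH hK => hH.to_sup_of_normal_left hK) fun H hH => hH).1
  set uL : L := ⟨u, hUL u huU⟩ with huL
  have huc : uL ∈ center L := mem_center_iff.mpr fun g => Subtype.ext (hLc g g.2)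
  have hPinv : ∀ p ∈ (P : Subgroup G), ∀ w ∈ U, p * w * p⁻¹ ∈ U := fun p hp w hw =>
    (mem_normalizer_iff.mp (hUn hp) w).mp hw
  by_cases hcent : ∀ p ∈ (P : Subgroup G), p * u = u * p
  · -- `u` is central in `P`
    have hPL : (P : Subgroup G) ≤ L := fun p hp => hcL p (hcent p hp)
    have hQP : ∀ q ∈ Q, ((q : L) : G) ∈ (P : Subgroup G) := fun q hq =>
      Core.pCore_le_sylow (P.subtype hPL) hq
    by_cases hZ : U ≤ centralizer ((P : Subgroup G) : Set G)
    · exact hsc (mem_centralizer_iff.mpr fun q hq =>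
        Subtype.ext (mem_centralizer_iff.mp (hZ hv) _ (hQP q hq)))
    -- the elements moving `Q` only by `u`
    let S : Submonoid L :=
      { carrier := {x | ∀ q ∈ Q, x * q * x⁻¹ = q ∨ x * q * x⁻¹ = q * uL}
        one_mem' := fun q _ => Or.inl (by simp)
        mul_mem' := by
          intro x y hx hy q hq
          have e : x * y * q * (x * y)⁻¹ = x * (y * q * y⁻¹) * x⁻¹ := by group
          rw [e]
          have hxu : x * uL * x⁻¹ = uL := by
            rw [mem_center_iff.mp huc x, mul_inv_cancel_right]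
          have hsq : uL * uL = 1 := Subtype.ext hu2
          rcases hy q hq with h | h <;> rw [h]
          · exact hx q hq
          · have e2 : x * (q * uL) * x⁻¹ = (x * q * x⁻¹) * (x * uL * x⁻¹) := by group
            rw [e2, hxu]
            rcases hx q hq with h' | h' <;> rw [h']
            · exact Or.inr rfl
            · exact Or.inl (by rw [mul_assoc, hsq, mul_one]) }
    have hSgrp : ∀ x ∈ S, x⁻¹ ∈ S := by
      intro x hx
      have h : x ^ (orderOf x - 1) ∈ S := S.pow_mem hx _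
      have e : x⁻¹ = x ^ (orderOf x - 1) := by
        refine inv_eq_of_mul_eq_one_right ?_
        rw [← pow_succ', Nat.sub_add_cancel (orderOf_pos x), pow_orderOf_eq_one]
      rwa [e]
    let S' : Subgroup L := { S with inv_mem' := fun {x} hx => hSgrp x hx }
    have hSn : S'.Normal := ⟨fun x hx g => show g * x * g⁻¹ ∈ S by
      intro q hq
      have hq' : g⁻¹ * q * g ∈ Q := by
        simpa using hQn.conj_mem q hq g⁻¹
      have e : g * x * g⁻¹ * q * (g * x * g⁻¹)⁻¹ = g * (x * (g⁻¹ * q * g) * x⁻¹) * g⁻¹ := by group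
      rw [e]
      rcases hx _ hq' with h | h <;> rw [h]
      · exact Or.inl (by group)
      · refine Or.inr ?_
        calc g * (g⁻¹ * q * g * uL) * g⁻¹ = q * (g * uL * g⁻¹) := by group
          _ = q * uL := by rw [mem_center_iff.mp huc g, mul_inv_cancel_right]⟩
    have hS2 : IsPGroup 2 S' := by
      rintro ⟨x, hx⟩
      have hxx : x * x ∈ Q := by
        refine hsc (mem_centralizer_iff.mpr fun q hq => ?_)
        have h1 : x * x * q * (x * x)⁻¹ = q := by
          have e : x * x * q * (x * x)⁻¹ = x * (x * q * x⁻¹) * x⁻¹ := by group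
          rw [e]
          rcases hx q hq with h | h
          · rw [h, h]
          · have hxu : x * uL * x⁻¹ = uL := by
              rw [mem_center_iff.mp huc x, mul_inv_cancel_right]
            have e2 : x * (q * uL) * x⁻¹ = (x * q * x⁻¹) * (x * uL * x⁻¹) := by group
            rw [h, e2, hxu, h, mul_assoc, show uL * uL = 1 from Subtype.ext hu2, mul_one]
        rw [mul_inv_eq_iff_eq_mul] at h1
        exact h1.symm
      obtain ⟨j, hj⟩ := Core.pCore_isPGroup (p := 2) (G := L) ⟨x * x, hxx⟩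
      refine ⟨j + 1, Subtype.ext ?_⟩
      show x ^ 2 ^ (j + 1) = 1
      have h1 : (x * x) ^ 2 ^ j = 1 := congrArg Subtype.val hj
      rwa [pow_succ', pow_mul, pow_two]
    refine Core.le_pCore (N := S') hS2 (show (⟨v, hUL v hv⟩ : L) ∈ S from fun q hq => ?_)
    have hqP := hQP q hq
    have hw := hPinv _ hqP v hv
    set w : G := ((q : L) : G) * v * ((q : L) : G)⁻¹ with hwdef
    have hvv := klein_sq hU4 hv
    have hvq : ((⟨v, hUL v hv⟩ * q * (⟨v, hUL v hv⟩ : L)⁻¹ : L) : G) = v * w * ((q : L) : G) := by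
      show v * ((q : L) : G) * v⁻¹ = _
      rw [inv_eq_of_mul_eq_one_right hvv, hwdef]
      group
    by_cases hvu : v = 1 ∨ v = u
    · left
      rcases hvu with e | e
      · exact Subtype.ext (by simp [e])
      · rw [show (⟨v, hUL v hv⟩ : L) = uL from Subtype.ext e, ← mem_center_iff.mp huc q,
          mul_inv_cancel_right]
    push Not at hvu
    rcases klein_product hU4 huU hv hw hu1 hvu.1 (Ne.symm hvu.2) with e | e | e | e
    · rw [hwdef, conj_eq_one_iff] at e
      exact absurd e hvu.1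
    · exfalso
      rw [hwdef, mul_inv_eq_iff_eq_mul, ← hcent _ hqP] at e
      exact hvu.2 (mul_left_cancel e)
    · left
      refine Subtype.ext (hvq.trans ?_)
      rw [e, hvv, one_mul]
    · right
      refine Subtype.ext (hvq.trans ?_)
      rw [e, ← mul_assoc, hUc v hv u huU, mul_assoc u, hvv, mul_one]
      exact (hLc _ (q : L).2).symm
  -- `u` is not central in `P`
  push Not at hcent
  obtain ⟨p1, hp1, hp1u⟩ := hcent
  have hnZ : ¬ U ≤ centralizer ((P : Subgroup G) : Set G) := fun h =>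
    hp1u (mem_centralizer_iff.mp (h huU) p1 hp1)
  have hcyc : IsCyclic ↥((P : Subgroup G) ⊓ centralizer ((P : Subgroup G) : Set G)) := by
    by_contra h
    exact hnZ (hUZ h)
  obtain ⟨z, hzU, hz1, hzP⟩ : ∃ z : G, z ∈ U ∧ z ≠ 1 ∧ ∀ p ∈ (P : Subgroup G), p * z = z * p := by
    have hn : (U.subgroupOf (P : Subgroup G)).Normal :=
      ⟨fun n hn s => hPinv _ s.2 _ hn⟩
    have hne' : U.subgroupOf (P : Subgroup G) ≠ ⊥ := fun e => hu1 (congrArg Subtype.val
      (mem_bot.mp (show (⟨u, hUP huU⟩ : ↥(P : Subgroup G)) ∈ (⊥ : Subgroup ↥(P : Subgroup G)) by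
        rw [← e]; exact huU)))
    have h := Fusion.pGroup_inf_center_ne_bot P.isPGroup' _ hne'
    obtain ⟨⟨z, hz⟩, hz1⟩ := Subgroup.ne_bot_iff_exists_ne_one.mp h
    exact ⟨z, hz.1, fun e => hz1 (Subtype.ext (Subtype.ext e)), fun p hp =>
      congrArg Subtype.val (mem_center_iff.mp hz.2 ⟨p, hp⟩)⟩
  have hz2 := klein_sq hU4 hzU
  have hzu : z ≠ u := fun e => hp1u (e ▸ hzP p1 hp1)
  let P0 : Subgroup G := (P : Subgroup G) ⊓ centralizer {u}
  have hP0 : ∀ x, x ∈ P0 ↔ x ∈ (P : Subgroup G) ∧ x * u = u * x := fun x =>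
    Subgroup.mem_inf.trans (and_congr Iff.rfl mem_centralizer_singleton_iff)
  have hP0L : P0 ≤ L := fun x hx => hcL x ((hP0 x).mp hx).2
  have hmove : ∀ p ∈ (P : Subgroup G), p * u ≠ u * p → p * u * p⁻¹ = z * u := by
    intro p hp hpu
    rcases klein_product hU4 hzU huU (hPinv p hp u huU) hz1 hu1 hzu with e | e | e | e
    · exact absurd (conj_eq_one_iff.mp e) hu1
    · rw [mul_inv_eq_iff_eq_mul, ← hzP p hp] at e
      exact absurd (mul_left_cancel e).symm hzu
    · exact absurd (mul_inv_eq_iff_eq_mul.mp e) hpu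
    · exact e
  have hidx : P0.relIndex (P : Subgroup G) = 2 := by
    refine Subgroup.index_eq_two_iff.mpr ⟨⟨p1, hp1⟩, fun b => ?_⟩
    show Xor ((b : G) * p1 ∈ P0) ((b : G) ∈ P0)
    have e1 : (b : G) * p1 * u * ((b : G) * p1)⁻¹ = z * ((b : G) * u * (b : G)⁻¹) := by
      calc (b : G) * p1 * u * ((b : G) * p1)⁻¹ = b * (p1 * u * p1⁻¹) * (b : G)⁻¹ := by group
        _ = b * (z * u) * (b : G)⁻¹ := by rw [hmove p1 hp1 hp1u]
        _ = (b * z) * u * (b : G)⁻¹ := by group
        _ = z * ((b : G) * u * (b : G)⁻¹) := by rw [hzP _ b.2]; group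
    by_cases hb : (b : G) * u = u * b
    · refine Or.inr ⟨(hP0 _).mpr ⟨b.2, hb⟩, fun h => hz1 ?_⟩
      have h' := ((hP0 _).mp h).2
      rw [← mul_inv_eq_iff_eq_mul, e1, mul_inv_eq_iff_eq_mul.mpr hb] at h'
      exact mul_eq_right.mp h'
    · refine Or.inl ⟨(hP0 _).mpr ⟨mul_mem b.2 hp1, ?_⟩, fun h => hb ((hP0 _).mp h).2⟩
      rw [← mul_inv_eq_iff_eq_mul, e1, hmove b b.2 hb, ← mul_assoc, hz2, one_mul]
  obtain ⟨T, hT⟩ := (P.isPGroup'.to_le (inf_le_left : P0 ≤ P)).of_equiv
    (subgroupOfEquivOfLe hP0L).symm |>.exists_le_sylow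
  let T' : Subgroup G := (T : Subgroup L).map L.subtype
  have hT'2 : IsPGroup 2 T' := T.isPGroup'.map _
  obtain ⟨S, hS⟩ := hT'2.exists_le_sylow
  have hP0T : P0 ≤ T' := fun x hx => ⟨⟨x, hP0L hx⟩, hT hx, rfl⟩
  have hUP0 : ∀ w ∈ U, w ∈ P0 := fun w hw => (hP0 w).mpr ⟨hUP hw, hUc w hw u huU⟩
  have hUcent : ∀ w ∈ U, ∀ x ∈ P0, x * w = w * x := by
    intro w hw x hx
    obtain ⟨hxP, hxu⟩ := (hP0 x).mp hx
    rcases klein_product hU4 hzU huU hw hz1 hu1 hzu with rfl | rfl | rfl | rfl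
    · simp
    · exact hzP x hxP
    · exact hxu
    · exact (((show Commute x z from hzP x hxP)).mul_right hxu).eq
  by_cases hsmall : T' ≤ P0
  · refine hsc (mem_centralizer_iff.mpr fun q hq => Subtype.ext ?_)
    exact hUcent v hv _ (hsmall ⟨q, Core.pCore_le_sylow T hq, rfl⟩)
  have hcardS : Nat.card (S : Subgroup G) = Nat.card (P : Subgroup G) := by
    rw [Sylow.card_eq_multiplicity, Sylow.card_eq_multiplicity]
  have hTS : T' = (S : Subgroup G) := by
    have h1 := Subgroup.relIndex_mul_relIndex P0 T' S hP0T hS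
    have h2 : P0.relIndex S = 2 := by
      have ha := Subgroup.relIndex_mul_relIndex ⊥ P0 (S : Subgroup G) bot_le (hP0T.trans hS)
      have hb := Subgroup.relIndex_mul_relIndex ⊥ P0 (P : Subgroup G) bot_le inf_le_left
      simp only [relIndex_bot_left] at ha hb
      rw [hidx, ← hcardS, ← ha] at hb
      exact (Nat.eq_of_mul_eq_mul_left Nat.card_pos hb).symm
    rw [h2] at h1
    have h3 : P0.relIndex T' ≠ 1 := fun h => hsmall (relIndex_eq_one.mp h)
    rcases (Nat.dvd_prime Nat.prime_two).mp (Dvd.intro _ h1) with h | h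
    · exact absurd h h3
    · rw [h] at h1
      exact le_antisymm hS (relIndex_eq_one.mp (by omega))
  obtain ⟨g, hg⟩ := MulAction.exists_smul_eq G P S
  have hgS : ∀ x ∈ (P : Subgroup G), g * x * g⁻¹ ∈ T' := by
    intro x hx
    rw [hTS, ← hg, Sylow.coe_subgroup_smul]
    exact ⟨x, hx, rfl⟩
  have huT' : u ∈ T' := hP0T (hUP0 u huU)
  have hTP : ∀ x ∈ T', g⁻¹ * x * g ∈ (P : Subgroup G) := by
    intro x hx
    rw [hTS, ← hg, Sylow.coe_subgroup_smul] at hx
    obtain ⟨y, hy, rfl⟩ := hx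
    simp [mul_assoc]
    exact hy
  have htoZ : ∀ w, w ∈ T' → (∀ s ∈ T', s * w = w * s) →
      g⁻¹ * w * g ∈ (P : Subgroup G) ⊓ centralizer ((P : Subgroup G) : Set G) := by
    intro w hw hc
    refine ⟨hTP w hw, mem_centralizer_iff.mpr fun x hx => ?_⟩
    have h := hc _ (hgS x hx)
    calc x * (g⁻¹ * w * g) = g⁻¹ * (g * x * g⁻¹ * w) * g := by group
      _ = g⁻¹ * (w * (g * x * g⁻¹)) * g := by rw [h]
      _ = g⁻¹ * w * g * x := by group
  have hTc : ∀ s ∈ T', s * u = u * s := by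
    rintro _ ⟨s, _, rfl⟩
    exact hLc s s.2
  have hzL : z ∈ L := hUL z hzU
  have hzQ : (⟨z, hzL⟩ : L) ∈ Q := by
    have := hsol
    refine mem_pCore hsc T huc (fun e => hu1 (congrArg Subtype.val e)) ?_ (P0.subgroupOf L)
      (fun x hx => hT hx) ?_ (hUP0 z hzU) (Subtype.ext hz2) ?_
    · intro w hw hw2 hwc
      by_cases hw1 : w = 1
      · exact Or.inl hw1
      refine Or.inr (Subtype.ext ?_)
      have hw' : (w : G) ∈ T' := ⟨w, hw, rfl⟩
      have h1 := htoZ _ hw' (by rintro _ ⟨s, hs, rfl⟩; exact congrArg Subtype.val (hwc s hs))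
      have h3 := eq_of_cyclic_involutions hcyc h1 (htoZ u huT' hTc)
        (by
          have : (w : G) * w = 1 := congrArg Subtype.val hw2
          calc g⁻¹ * w * g * (g⁻¹ * w * g) = g⁻¹ * ((w : G) * w) * g := by group
            _ = 1 := by rw [this]; group)
        (by
          calc g⁻¹ * u * g * (g⁻¹ * u * g) = g⁻¹ * (u * u) * g := by group
            _ = 1 := by rw [hu2]; group)
        (fun e => hw1 (Subtype.ext ((conj_eq_one_iff (a := g⁻¹)).mp (by simpa using e))))
        (fun e => hu1 ((conj_eq_one_iff (a := g⁻¹)).mp (by simpa using e)))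
      exact mul_left_cancel (mul_right_cancel h3)
    · have h2 : P0.relIndex T' = 2 := by
        have ha := Subgroup.relIndex_mul_relIndex ⊥ P0 T' bot_le hP0T
        have hb := Subgroup.relIndex_mul_relIndex ⊥ P0 (P : Subgroup G) bot_le inf_le_left
        simp only [relIndex_bot_left] at ha hb
        rw [hTS, hcardS] at ha
        rw [hidx, ← ha, ← hTS] at hb
        exact (Nat.eq_of_mul_eq_mul_left Nat.card_pos hb).symm
      rw [← relIndex_subgroupOf (map_subtype_le _ : T' ≤ L)] at h2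
      rwa [show T'.subgroupOf L = (T : Subgroup L) from
        Subgroup.comap_map_eq_self_of_injective L.subtype_injective _] at h2
    · exact fun p hp => Subtype.ext (hzP _ ((hP0 _).mp hp).1)
  have huQ : uL ∈ Q := le_pCore_of_center huc (Subtype.ext hu2)
  rcases klein_product hU4 hzU huU hv hz1 hu1 hzu with rfl | rfl | rfl | rfl
  · exact one_mem Q
  · exact hzQ
  · exact huQ
  · exact mul_mem hzQ huQ

theorem main [Finite G] (hN : Cfsg.IsNGroup G) (h2 : Cfsg.IsCharacteristicTwoType G)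
    (P : Sylow 2 G) (U : Subgroup G) (hUP : U ≤ (P : Subgroup G))
    (hUn : (P : Subgroup G) ≤ Subgroup.normalizer (U : Set G)) (hU4 : IsKleinFour U)
    (hUZ : ¬ IsCyclic ↥((P : Subgroup G) ⊓ centralizer ((P : Subgroup G) : Set G)) →
      U ≤ centralizer ((P : Subgroup G) : Set G))
    (K : Subgroup G) (hK : Odd (Nat.card K)) (hUK : U ≤ Subgroup.normalizer (K : Set G)) :
    U ≤ centralizer (K : Set G) := by
  have : Fact (Nat.Prime 2) := ⟨Nat.prime_two⟩
  have : IsMulCommutative U :=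
    ⟨⟨fun x y => mul_comm_of_exponent_two IsKleinFour.exponent_two x y⟩⟩
  have hcop : (Nat.card U).Coprime (Nat.card K) := by
    rw [IsKleinFour.card_four, show 4 = 2 ^ 2 by rfl]
    exact (Nat.coprime_two_left.mpr hK).pow_left 2
  have hgen := Coprime.iSup_centralizer_eq (A := U) (K := K) IsKleinFour.not_isCyclic hUK hcop
  suffices h : K ≤ centralizer (U : Set G) from le_centralizer_iff.mp h
  conv_lhs => rw [← hgen]
  refine iSup₂_le fun a ha k hk => mem_centralizer_iff.mpr fun v hv => ?_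
  obtain ⟨hkK, hka⟩ := hk
  have hka' : k * a = a * k := mem_centralizer_singleton_iff.mp hka
  obtain ⟨hvL, hvQ⟩ := le_core_centralizer hN h2 P U hUP hUn hU4 hUZ ha.1 ha.2 v hv
  have hkL : k ∈ normalizer ((zpowers a : Subgroup G) : Set G) := by
    refine mem_normalizer_iff.mpr fun y => ⟨?_, ?_⟩
    · rintro ⟨j, rfl⟩
      refine ⟨j, ?_⟩
      show a ^ j = k * a ^ j * k⁻¹
      rw [((show Commute k a from hka').zpow_right j).eq, mul_inv_cancel_right]
    · rintro ⟨j, hj⟩
      refine ⟨j, ?_⟩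
      have e : a ^ j = k * a ^ j * k⁻¹ := by
        rw [((show Commute k a from hka').zpow_right j).eq, mul_inv_cancel_right]
      simp only at hj
      rw [e] at hj
      exact mul_left_cancel (mul_right_cancel hj)
  set L := normalizer ((zpowers a : Subgroup G) : Set G) with hL
  have hQn : (Cfsg.pCore 2 L).Normal := (Core.normal_and_sSup_induction (Set.toFinite _)
    (P := fun H => IsPGroup 2 H) IsPGroup.of_bot
    (fun H K _ _ hH hK => hH.to_sup_of_normal_left hK) fun H hH => hH).1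
  set c : L := ⟨k, hkL⟩ * ⟨v, hvL⟩ * (⟨k, hkL⟩ : L)⁻¹ * (⟨v, hvL⟩ : L)⁻¹ with hc
  have hcQ : c ∈ Cfsg.pCore 2 L := mul_mem (hQn.conj_mem _ hvQ _) (inv_mem hvQ)
  have hcK : (c : G) ∈ K := by
    show k * v * k⁻¹ * v⁻¹ ∈ K
    have h : v * k⁻¹ * v⁻¹ ∈ K := (mem_normalizer_iff.mp (hUK hv) _).mp (inv_mem hkK)
    simpa [mul_assoc] using mul_mem hkK h
  obtain ⟨j, hj⟩ := Core.pCore_isPGroup (p := 2) (G := L) ⟨c, hcQ⟩
  have h1 : (c : G) ^ 2 ^ j = 1 := congrArg (fun x : Cfsg.pCore 2 L => ((x : L) : G)) hj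
  have h2' : (c : G) ^ Nat.card K = 1 := congrArg Subtype.val
    (pow_card_eq_one' (x := (⟨c, hcK⟩ : K)))
  have h3 := pow_gcd_eq_one.mpr ⟨h1, h2'⟩
  rw [Nat.Coprime.gcd_eq_one ((Nat.coprime_two_left.mpr hK).pow_left j), pow_one] at h3
  have h4 : k * v * k⁻¹ * v⁻¹ = 1 := h3
  rw [mul_inv_eq_one, mul_inv_eq_iff_eq_mul] at h4
  exact h4.symm

end Cfsg.Agent.NFour
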